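import Cfsg.Agent.ZNStructure44.Basic
import Cfsg.Agent.S3759
import Cfsg.Agent.S0518

/-!
Groups with solvable 2-locals and `C(Ω₁Z(S)) ≤ N(S)`: in local characteristic two the group
`O²(G)` has a strongly embedded subgroup or a dihedral or semidihedral Sylow 2-subgroup.
-/

set_option autoImplicit false

namespace CfsgLib.ZNStructure44

open Cfsg

variable {G : Type*} [Group G] [Finite G]

omit [Finite G] in
theorem isTwoLocal_centralizer_solvable (hN : ∀ L : Subgroup G, IsTwoLocal L → Group.IsSolvable L)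
    (t : G) (ht : orderOf t = 2) :
    Group.IsSolvable ↥(Subgroup.centralizer ({t} : Set G)) := by
  have hL : IsTwoLocal (Subgroup.normalizer (Subgroup.zpowers t : Set G)) :=
    ⟨_, IsPGroup.of_card (n := 1) (by rw [Nat.card_zpowers, ht, pow_one]), by
      rw [Ne, Subgroup.zpowers_eq_bot]; intro h; rw [h, orderOf_one] at ht; omega, rfl⟩
  have := hN _ hL
  have hle : Subgroup.centralizer ({t} : Set G) ≤
      Subgroup.normalizer (Subgroup.zpowers t : Set G) := by
    rw [← Subgroup.centralizer_closure, ← Subgroup.zpowers_eq_closure]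
    exact Subgroup.centralizer_le_normalizer _
  exact Group.isSolvable_of_isSolvable_injective (f := Subgroup.inclusion hle)
    (Subgroup.inclusion_injective hle)

theorem even_pResidual (heven : Even (Nat.card G)) (hO' : pPrimeCore 2 G = ⊥) (hO : pCore 2 G = ⊥) :
    Even (Nat.card ↥(pResidual 2 G)) := by
  have : Fact (Nat.Prime 2) := ⟨Nat.prime_two⟩
  by_contra hodd
  have hn : (pResidual 2 G).Normal := ZCReduction89.pResidual_normal'
  have h1 : pResidual 2 G = ⊥ :=
    le_bot_iff.mp (hO' ▸ TwoComponents.le_oddCore hn (Nat.not_even_iff_odd.mp hodd))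
  have h2 : (⊤ : Subgroup G) ≤ pCore 2 G :=
    le_sSup ⟨inferInstance, (ZCReduction89.isPGroup_of_mem_pResidual_bot h1).to_subgroup ⊤⟩
  rw [hO, top_le_iff] at h2
  have h3 := Subgroup.card_top (G := G)
  rw [← h2, Subgroup.card_bot] at h3
  rw [← h3] at heven
  exact Nat.not_even_one heven

/-- The local characteristic two case. -/
theorem charTwo_case (hN : ∀ L : Subgroup G, IsTwoLocal L → Group.IsSolvable L)
    (hZ : ∀ S : Sylow 2 G, Subgroup.centralizer
      (omegaOne 2 ((S : Subgroup G) ⊓ Subgroup.centralizer ((S : Subgroup G) : Set G)) : Set G) ≤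
        Subgroup.normalizer ((S : Subgroup G) : Set G))
    (hO : pCore 2 G = ⊥) (S : Sylow 2 G)
    (hK : IsCharacteristicTwoType ↥(pResidual 2 G ⊔
      omegaOne 2 ((S : Subgroup G) ⊓ Subgroup.centralizer ((S : Subgroup G) : Set G))))
    (hHeven : Even (Nat.card ↥(pResidual 2 G))) :
    (∃ M : Subgroup ↥(pResidual 2 G), IsStronglyEmbedded M) ∨
      ((∃ n : ℕ, 2 ≤ n ∧ Nonempty (↥((S : Subgroup G) ⊓ pResidual 2 G) ≃* DihedralGroup n)) ∨
        IsQuasiDihedral ↥((S : Subgroup G) ⊓ pResidual 2 G)) := by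
  classical
  have : Fact (Nat.Prime 2) := ⟨Nat.prime_two⟩
  set H := pResidual 2 G with hH
  have hHn : H.Normal := ZCReduction89.pResidual_normal'
  set Z := omegaOne 2 ((S : Subgroup G) ⊓ Subgroup.centralizer ((S : Subgroup G) : Set G)) with hZdef
  have memZ : ∀ (T : Sylow 2 G) (x : G),
      x ∈ omegaOne 2 ((T : Subgroup G) ⊓ Subgroup.centralizer ((T : Subgroup G) : Set G)) ↔
      x ∈ (T : Subgroup G) ∧ (∀ s ∈ (T : Subgroup G), s * x = x * s) ∧ x * x = 1 := fun T x => by
    rw [ZCReduction89.mem_omega_iff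
      ((T : Subgroup G) ⊓ Subgroup.centralizer ((T : Subgroup G) : Set G)) (fun a ha b hb =>
      Subgroup.mem_centralizer_iff.mp hb.2 a ha.1), Subgroup.mem_inf, Subgroup.mem_centralizer_iff]
    exact and_assoc
  set K := H ⊔ Z with hKdef
  have hKn : K.Normal := by
    refine ⟨fun x hx g => ?_⟩
    have hle : (S : Subgroup G) ⊔ H ≤ Subgroup.normalizer (K : Set G) := by
      refine sup_le (CfsgLib.Coprime.le_normalizer_of_conj_mem fun s hs y hy => ?_)
        (le_trans le_sup_left Subgroup.le_normalizer)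
      have hle : K ≤ K.comap (MulAut.conj s).toMonoidHom := sup_le
        (fun y hy => Subgroup.mem_sup_left (hHn.conj_mem y hy s))
        (fun y hy => Subgroup.mem_sup_right (by
          show s * y * s⁻¹ ∈ Z
          rwa [((memZ S y).mp hy).2.1 s hs, mul_inv_cancel_right]))
      exact hle hy
    have htop : (S : Subgroup G) ⊔ H = ⊤ := CfsgLib.Transfer.sylow_sup_pResidual S
    exact (Subgroup.mem_normalizer_iff.mp (hle (htop ▸ Subgroup.mem_top g)) x).mp hx
  -- the hypotheses descend to `K`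
  have hOK : pCore 2 ↥K = ⊥ := by
    refine (Subgroup.map_eq_bot_iff_of_injective _ (Subgroup.subtype_injective K)).mp
      (le_bot_iff.mp ?_)
    exact hO ▸ LocalP.map_pCore_le_of_normal K
  have hNK : ∀ L : Subgroup ↥K, IsTwoLocal L → Group.IsSolvable L := by
    rintro L ⟨T, hT, hT1, rfl⟩
    have hloc : IsTwoLocal (Subgroup.normalizer (T.map K.subtype : Set G)) :=
      ⟨_, hT.map _, fun h => hT1
        ((Subgroup.map_eq_bot_iff_of_injective _ (Subgroup.subtype_injective K)).mp h), rfl⟩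
    have := hN _ hloc
    have hle : (Subgroup.normalizer (T : Set ↥K)).map K.subtype ≤
        Subgroup.normalizer (T.map K.subtype : Set G) := Subgroup.le_normalizer_map _
    let f : ↥(Subgroup.normalizer (T : Set ↥K)) →*
        ↥(Subgroup.normalizer (T.map K.subtype : Set G)) :=
      (K.subtype.comp (Subgroup.subtype _)).codRestrict _ fun c => hle ⟨_, c.2, rfl⟩
    refine Group.isSolvable_of_isSolvable_injective (f := f) fun a b e => ?_
    exact Subtype.ext (Subtype.ext
      (congrArg (fun c : ↥(Subgroup.normalizer (T.map K.subtype : Set G)) => (c : G)) e :))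
  have hZK : ∀ T : Sylow 2 ↥K,
      Subgroup.centralizer
          {z : ↥K | z ∈ (T : Subgroup ↥K) ∧ z ^ 2 = 1 ∧ ∀ s ∈ (T : Subgroup ↥K), s * z = z * s} ≤
        Subgroup.normalizer ((T : Subgroup ↥K) : Set ↥K) := by
    intro T c hc
    obtain ⟨S', hS'⟩ := (T.isPGroup'.map K.subtype).exists_le_sylow
    have hT : ∀ x : ↥K, x ∈ (T : Subgroup ↥K) ↔ (x : G) ∈ (S' : Subgroup G) := by
      intro x
      refine ⟨fun hx => hS' ⟨x, hx, rfl⟩, fun hx => ?_⟩
      have h1 := T.is_maximal'
        (S'.isPGroup'.comap_of_injective K.subtype (Subgroup.subtype_injective K))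
        (fun y hy => hS' ⟨y, hy, rfl⟩)
      exact h1 ▸ hx
    obtain ⟨g, hg⟩ := MulAction.exists_smul_eq G S S'
    have hmem : ∀ x : G, x ∈ (S : Subgroup G) → g * x * g⁻¹ ∈ (S' : Subgroup G) := fun x hx =>
      hg ▸ (⟨x, hx, rfl⟩ : g * x * g⁻¹ ∈ ((g • S : Sylow 2 G) : Subgroup G))
    have hmem' : ∀ x : G, x ∈ (S' : Subgroup G) → g⁻¹ * x * g ∈ (S : Subgroup G) := fun x hx => by
      rw [← hg] at hx
      obtain ⟨y, hy, rfl⟩ := hx
      show g⁻¹ * (g * y * g⁻¹) * g ∈ (S : Subgroup G)
      rwa [show g⁻¹ * (g * y * g⁻¹) * g = y by group]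
    have hcG : (c : G) ∈ Subgroup.centralizer
        (omegaOne 2 ((S' : Subgroup G) ⊓ Subgroup.centralizer ((S' : Subgroup G) : Set G)) : Set G) := by
      refine Subgroup.mem_centralizer_iff.mpr fun w hw => ?_
      obtain ⟨hwS, hwc, hw2⟩ := (memZ S' w).mp hw
      have hwK : w ∈ K := by
        have h1 : g⁻¹ * w * g ∈ Z := (memZ S _).mpr ⟨hmem' w hwS, fun s hs => by
            have h := hwc _ (hmem s hs)
            calc s * (g⁻¹ * w * g) = g⁻¹ * (g * s * g⁻¹ * w) * g := by group
              _ = g⁻¹ * (w * (g * s * g⁻¹)) * g := by rw [h]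
              _ = g⁻¹ * w * g * s := by group,
          by rw [show g⁻¹ * w * g * (g⁻¹ * w * g) = g⁻¹ * (w * w) * g by group, hw2]; group⟩
        have h2 := hKn.conj_mem _ (Subgroup.mem_sup_right h1 : g⁻¹ * w * g ∈ K) g
        rwa [show g * (g⁻¹ * w * g) * g⁻¹ = w by group] at h2
      exact congrArg Subtype.val (Subgroup.mem_centralizer_iff.mp hc ⟨w, hwK⟩
        ⟨(hT _).mpr hwS, Subtype.ext (by simpa [pow_two] using hw2),
          fun s hs => Subtype.ext (hwc _ ((hT s).mp hs))⟩)
    rw [Subgroup.mem_normalizer_iff]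
    intro x
    rw [hT, hT]
    exact Subgroup.mem_normalizer_iff.mp (hZ S' hcG) x
  have hcl : Subgroup.closure {g : ↥K | Odd (orderOf g)} ≤ H.subgroupOf K :=
    (Subgroup.closure_le _).mpr fun x hx => Subgroup.subset_closure
      (show Nat.Coprime (orderOf (x : G)) 2 by
        rw [Subgroup.orderOf_coe]; exact Nat.coprime_two_right.mpr hx)
  have hHK : H ≤ K := le_sup_left
  have hcl' : ∀ x : ↥K, (x : G) ∈ H → x ∈ Subgroup.closure {g : ↥K | Odd (orderOf g)} := by
    intro x hx
    have h1 : H ≤ (Subgroup.closure {g : ↥K | Odd (orderOf g)}).map K.subtype := by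
      refine (Subgroup.closure_le _).mpr fun y hy => ?_
      have hy' : y ∈ K := hHK (Subgroup.subset_closure hy)
      exact ⟨⟨y, hy'⟩, Subgroup.subset_closure (show Odd (orderOf (⟨y, hy'⟩ : ↥K)) by
        rw [← Subgroup.orderOf_coe]; exact Nat.coprime_two_right.mp hy), rfl⟩
    obtain ⟨y, hy, e⟩ := h1 hx
    rwa [show y = x from Subtype.ext e] at hy
  rcases Cfsg.Agent.S0518.result hK hOK hNK hZK _ rfl with ⟨M, hM⟩ | ⟨M₁, M₂, -, hM₁, -, ⟨e⟩, -, -⟩
  · left
    have hr : (Subgroup.inclusion hHK).range.Normal := by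
      have he : (Subgroup.inclusion hHK).range = H.comap K.subtype := by
        ext x
        exact ⟨fun ⟨y, hy⟩ => hy ▸ (y.2 : (y : G) ∈ H), fun hx => ⟨⟨x, hx⟩, rfl⟩⟩
      rw [he]
      exact hHn.comap _
    exact ⟨_, stronglyEmbedded_comap hM (Subgroup.inclusion hHK)
      (Subgroup.inclusion_injective hHK) hHeven⟩
  · right
    obtain ⟨a', b', hab⟩ := selfCentFour_of_sym4 M₁ hM₁.1 e
    have hG : SelfCentFour H ((a' : ↥K) : G) ((b' : ↥K) : G) := by
      have inj : ∀ p q : ↥(Subgroup.closure {g : ↥K | Odd (orderOf g)}),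
          ((p : ↥K) : G) = ((q : ↥K) : G) → p = q := fun p q h => Subtype.ext (Subtype.ext h)
      have cv : ∀ {p q : ↥(Subgroup.closure {g : ↥K | Odd (orderOf g)})}, p = q →
          ((p : ↥K) : G) = ((q : ↥K) : G) := fun h => by rw [h]
      refine ⟨hcl a'.2, hcl b'.2, cv hab.a2, cv hab.b2, fun h => hab.a1 (inj a' 1 h),
        fun h => hab.b1 (inj b' 1 h), fun h => hab.ne (inj _ _ h), cv hab.comm,
        fun x hx hxa hxb => ?_⟩
      let x' : ↥(Subgroup.closure {g : ↥K | Odd (orderOf g)}) := ⟨⟨x, hHK hx⟩, hcl' _ hx⟩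
      rcases hab.cent x' (Subgroup.mem_top _) (inj (x' * a') (a' * x') hxa)
          (inj (x' * b') (b' * x') hxb) with h | h | h | h
      all_goals
        have h' := cv h
      · exact Or.inl h'
      · exact Or.inr (Or.inl h')
      · exact Or.inr (Or.inr (Or.inl h'))
      · exact Or.inr (Or.inr (Or.inr h'))
    -- move the four group into `S`
    set V := Subgroup.closure ({((a' : ↥K) : G), ((b' : ↥K) : G)} : Set G)
    have hV : IsPGroup 2 V := by
      intro v
      refine ⟨1, Subtype.ext ?_⟩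
      show (v : G) ^ 2 ^ 1 = 1
      rw [pow_one, pow_two]
      have hcm : ∀ p : G, p ∈ V → p * ((a' : ↥K) : G) = ((a' : ↥K) : G) * p ∧
          p * ((b' : ↥K) : G) = ((b' : ↥K) : G) * p := fun p hp => by
        refine Subgroup.closure_induction (p := fun q _ => q * ((a' : ↥K) : G) = ((a' : ↥K) : G) * q ∧
          q * ((b' : ↥K) : G) = ((b' : ↥K) : G) * q) ?_ ⟨by simp, by simp⟩ ?_ ?_ hp
        · rintro q (rfl | rfl)
          · exact ⟨rfl, hG.comm⟩
          · exact ⟨hG.comm.symm, rfl⟩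
        · rintro p q - - ⟨h1, h2⟩ ⟨h3, h4⟩
          exact ⟨(show Commute p _ from h1).mul_left (show Commute q _ from h3),
            (show Commute p _ from h2).mul_left (show Commute q _ from h4)⟩
        · rintro p - ⟨h1, h2⟩
          exact ⟨(show Commute p _ from h1).inv_left, (show Commute p _ from h2).inv_left⟩
      obtain ⟨h1, h2⟩ := hcm v v.2
      have hvH : (v : G) ∈ H := (Subgroup.closure_le H).mpr (by
        rintro q (rfl | rfl); exacts [hG.aH, hG.bH]) v.2
      rcases hG.cent v hvH h1 h2 with h | h | h | h <;> rw [h]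
      · exact one_mul 1
      · exact hG.a2
      · exact hG.b2
      · calc _ = ((a' : ↥K) : G) * (((b' : ↥K) : G) * ((a' : ↥K) : G)) * ((b' : ↥K) : G) := by group
          _ = (((a' : ↥K) : G) * ((a' : ↥K) : G)) * (((b' : ↥K) : G) * ((b' : ↥K) : G)) := by
            rw [← hG.comm]; group
          _ = 1 := by rw [hG.a2, hG.b2, one_mul]
    obtain ⟨S', hS'⟩ := hV.exists_le_sylow
    obtain ⟨g, hg⟩ := MulAction.exists_smul_eq G S' S
    have hin : ∀ x ∈ V, g * x * g⁻¹ ∈ (S : Subgroup G) := fun x hx =>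
      hg ▸ (⟨x, hS' hx, rfl⟩ : g * x * g⁻¹ ∈ ((g • S' : Sylow 2 G) : Subgroup G))
    have h := hG.conj g
    refine dihedral_of_selfCentFour (S.isPGroup'.to_le inf_le_left)
      ⟨⟨hin _ (Subgroup.subset_closure (by simp)), h.aH⟩,
        ⟨hin _ (Subgroup.subset_closure (by simp)), h.bH⟩, h.a2, h.b2, h.a1, h.b1, h.ne, h.comm,
        fun x hx => h.cent x hx.2⟩

end CfsgLib.ZNStructure44
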