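import Cfsg.Agent.ZCReduction89Main
import Cfsg.Agent.StronglyEmbedded.Basic
import Cfsg.Agent.LocalP.Basic
import Cfsg.Agent.CharP.SylowInNormal
import Cfsg.Agent.FixityFour.SmallTwo

/-!
Auxiliary facts for the structure theorem of groups with solvable 2-locals and
`C(Ω₁Z(S)) ≤ N(S)`: passing a strongly embedded subgroup to a normal subgroup, the
self-centralizing four group of a maximal 2-local isomorphic to the symmetric group of degree
four, and the resulting shape of a Sylow 2-subgroup.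
-/

set_option autoImplicit false

namespace CfsgLib.ZNStructure44

open Cfsg

/-- A strongly embedded subgroup restricts to a normal subgroup of even order. -/
theorem stronglyEmbedded_comap {X Y : Type*} [Group X] [Finite X] [Group Y] [Finite Y]
    {M : Subgroup X} (hM : IsStronglyEmbedded M) (f : Y →* X) (hf : Function.Injective f)
    [f.range.Normal] (heven : Even (Nat.card Y)) : IsStronglyEmbedded (M.comap f) := by
  have he : Even (Nat.card f.range) := by
    rwa [← Nat.card_congr (MonoidHom.ofInjective hf).toEquiv]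
  obtain ⟨t, htM, ht⟩ := StronglyEmbedded.exists_involution hM
  obtain ⟨y, rfl⟩ := StronglyEmbedded.involution_mem_of_normal hM (N := f.range) he ht
  rw [orderOf_injective f hf] at ht
  refine StronglyEmbedded.intro_of_conj_mem (fun htop => ?_)
    (StronglyEmbedded.even_card_of_mem ht htM) fun s g hs hsM hg => ?_
  · have hle : f.range ≤ M := by
      rintro _ ⟨x, rfl⟩
      exact (htop ▸ Subgroup.mem_top x : x ∈ M.comap f)
    exact Nat.not_even_iff_odd.mpr (StronglyEmbedded.odd_card_of_normal_le hM hle) he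
  · refine StronglyEmbedded.mem_of_conj_mem hM (t := f s) ((orderOf_injective f hf s).trans hs)
      hsM ?_
    have h : f (g * s * g⁻¹) ∈ M := hg
    simpa using h

/-- In the symmetric group of degree four a nontrivial normal subgroup without elements of
order three is the four group. -/
theorem four_normal (U : Subgroup (Equiv.Perm (Fin 4))) [U.Normal] (hne : U ≠ ⊥)
    (h3 : ∀ u ∈ U, u ^ 3 = 1 → u = 1) :
    let a : Equiv.Perm (Fin 4) := Equiv.swap 0 1 * Equiv.swap 2 3
    let b : Equiv.Perm (Fin 4) := Equiv.swap 0 2 * Equiv.swap 1 3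
    a ∈ U ∧ b ∈ U ∧ ∀ u ∈ U, u = 1 ∨ u = a ∨ u = b ∨ u = a * b := by
  intro a b
  have key1 : ∀ x : Equiv.Perm (Fin 4), x = 1 ∨ x = a ∨ x = b ∨ x = a * b ∨
      (x ^ 3 = 1 ∧ x ≠ 1) ∨
        ∃ g : Equiv.Perm (Fin 4), (x * (g * x * g⁻¹)) ^ 3 = 1 ∧ x * (g * x * g⁻¹) ≠ 1 := by
    decide +kernel
  have hsub : ∀ u ∈ U, u = 1 ∨ u = a ∨ u = b ∨ u = a * b := by
    intro u hu
    rcases key1 u with h | h | h | h | ⟨h, h'⟩ | ⟨g, h, h'⟩
    · exact Or.inl h
    · exact Or.inr (Or.inl h)
    · exact Or.inr (Or.inr (Or.inl h))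
    · exact Or.inr (Or.inr (Or.inr h))
    · exact absurd (h3 u hu h) h'
    · exact absurd (h3 _ (mul_mem hu ((inferInstance : U.Normal).conj_mem u hu g)) h) h'
  have key2 : ∀ x : Equiv.Perm (Fin 4), (x = a ∨ x = b ∨ x = a * b) →
      (∃ g : Equiv.Perm (Fin 4), g * x * g⁻¹ = a) ∧
      (∃ g : Equiv.Perm (Fin 4), g * x * g⁻¹ = b) := by
    decide +kernel
  obtain ⟨x, hx, hx1⟩ := (Subgroup.bot_or_exists_ne_one U).resolve_left hne
  obtain ⟨⟨g, hg⟩, ⟨g', hg'⟩⟩ := key2 x ((hsub x hx).resolve_left hx1)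
  exact ⟨hg ▸ (inferInstance : U.Normal).conj_mem x hx g,
    hg' ▸ (inferInstance : U.Normal).conj_mem x hx g', hsub⟩

theorem four_self_centralizing (x : Equiv.Perm (Fin 4))
    (ha : x * (Equiv.swap 0 1 * Equiv.swap 2 3) = Equiv.swap 0 1 * Equiv.swap 2 3 * x)
    (hb : x * (Equiv.swap 0 2 * Equiv.swap 1 3) = Equiv.swap 0 2 * Equiv.swap 1 3 * x) :
    x = 1 ∨ x = Equiv.swap 0 1 * Equiv.swap 2 3 ∨ x = Equiv.swap 0 2 * Equiv.swap 1 3 ∨
      x = Equiv.swap 0 1 * Equiv.swap 2 3 * (Equiv.swap 0 2 * Equiv.swap 1 3) := by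
  revert x
  decide +kernel

/-- Two commuting involutions forming a self-centralizing four group. -/
structure SelfCentFour {G : Type*} [Group G] (H : Subgroup G) (a b : G) : Prop where
  aH : a ∈ H
  bH : b ∈ H
  a2 : a * a = 1
  b2 : b * b = 1
  a1 : a ≠ 1
  b1 : b ≠ 1
  ne : a ≠ b
  comm : a * b = b * a
  cent : ∀ x ∈ H, x * a = a * x → x * b = b * x → x = 1 ∨ x = a ∨ x = b ∨ x = a * b

theorem SelfCentFour.conj {G : Type*} [Group G] {H : Subgroup G} [hH : H.Normal] {a b : G}
    (h : SelfCentFour H a b) (g : G) : SelfCentFour H (g * a * g⁻¹) (g * b * g⁻¹) := by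
  have hm : ∀ x y : G, g * x * g⁻¹ * (g * y * g⁻¹) = g * (x * y) * g⁻¹ := fun x y => by group
  refine ⟨hH.conj_mem a h.aH g, hH.conj_mem b h.bH g, ?_, ?_, ?_, ?_, ?_, ?_, ?_⟩
  · rw [hm, h.a2]; group
  · rw [hm, h.b2]; group
  · intro e; exact h.a1 (conj_eq_one_iff.mp e)
  · intro e; exact h.b1 (conj_eq_one_iff.mp e)
  · intro e; exact h.ne (mul_left_cancel (mul_right_cancel e))
  · rw [hm, hm, h.comm]
  · intro x hx hxa hxb
    have hy : ∀ c : G, x * (g * c * g⁻¹) = g * c * g⁻¹ * x →
        g⁻¹ * x * g * c = c * (g⁻¹ * x * g) := by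
      intro c hc
      calc g⁻¹ * x * g * c = g⁻¹ * (x * (g * c * g⁻¹)) * g := by group
        _ = g⁻¹ * (g * c * g⁻¹ * x) * g := by rw [hc]
        _ = c * (g⁻¹ * x * g) := by group
    have hxH : g⁻¹ * x * g ∈ H := by simpa using hH.conj_mem x hx g⁻¹
    have hx' : x = g * (g⁻¹ * x * g) * g⁻¹ := by group
    rcases h.cent _ hxH (hy a hxa) (hy b hxb) with e | e | e | e
    · left; rw [hx', e]; group
    · right; left; rw [hx', e]
    · right; right; left; rw [hx', e]
    · right; right; right; rw [hm, hx', e]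

/-- A maximal 2-local of shape `S₄` inside a subgroup provides a self-centralizing four group. -/
theorem selfCentFour_of_sym4 {K : Type*} [Group K] [Finite K] (M : Subgroup K) (hM : IsTwoLocal M)
    (e : M ≃* Equiv.Perm (Fin 4)) :
    ∃ a b : K, SelfCentFour (⊤ : Subgroup K) a b := by
  obtain ⟨U, hU, hUne, rfl⟩ := hM
  have hUN : U ≤ Subgroup.normalizer (U : Set K) := Subgroup.le_normalizer
  set U' := (U.subgroupOf (Subgroup.normalizer (U : Set K))).map e.toMonoidHom with hU'
  have hn : U'.Normal :=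
    ((Subgroup.normal_subgroupOf_iff_le_normalizer hUN).mpr le_rfl).map _ e.surjective
  have hp : IsPGroup 2 U' := (hU.comap_of_injective _ (Subgroup.subtype_injective _)).map _
  have hne' : U' ≠ ⊥ := by
    intro h
    rw [hU', Subgroup.map_eq_bot_iff_of_injective _ e.injective, Subgroup.subgroupOf_eq_bot] at h
    exact hUne (h.eq_bot_of_le hUN)
  have h3 : ∀ u ∈ U', u ^ 3 = 1 → u = 1 := by
    intro u hu hu3
    obtain ⟨k, hk⟩ := hp ⟨u, hu⟩
    have hk' : u ^ 2 ^ k = 1 := by simpa using congrArg Subtype.val hk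
    exact orderOf_eq_one_iff.mp (Nat.eq_one_of_dvd_coprimes
      (Nat.Coprime.pow_left k (by decide : Nat.Coprime 2 3)) (orderOf_dvd_of_pow_eq_one hk')
      (orderOf_dvd_of_pow_eq_one hu3))
  obtain ⟨ha, hb, hsub⟩ := four_normal U' hne' h3
  set pa : Equiv.Perm (Fin 4) := Equiv.swap 0 1 * Equiv.swap 2 3 with hpa
  set pb : Equiv.Perm (Fin 4) := Equiv.swap 0 2 * Equiv.swap 1 3 with hpb
  have val : ∀ p q : Equiv.Perm (Fin 4),
      ((e.symm p : ↥(Subgroup.normalizer (U : Set K))) : K) * (e.symm q : K) =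
        ((e.symm (p * q) : ↥(Subgroup.normalizer (U : Set K))) : K) := fun p q => by
    rw [map_mul, Subgroup.coe_mul]
  have inj : ∀ p q : Equiv.Perm (Fin 4),
      ((e.symm p : ↥(Subgroup.normalizer (U : Set K))) : K) = e.symm q → p = q :=
    fun p q h => e.symm.injective (Subtype.ext h)
  refine ⟨(e.symm pa : K), (e.symm pb : K), ⟨Subgroup.mem_top _, Subgroup.mem_top _,
    ?_, ?_, ?_, ?_, ?_, ?_, ?_⟩⟩
  · rw [val, show pa * pa = 1 by rw [hpa]; decide, map_one, Subgroup.coe_one]
  · rw [val, show pb * pb = 1 by rw [hpb]; decide, map_one, Subgroup.coe_one]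
  · intro h
    exact absurd (inj pa 1 (h.trans (by rw [map_one, Subgroup.coe_one]))) (by rw [hpa]; decide)
  · intro h
    exact absurd (inj pb 1 (h.trans (by rw [map_one, Subgroup.coe_one]))) (by rw [hpb]; decide)
  · intro h
    exact absurd (inj _ _ h) (by rw [hpa, hpb]; decide)
  · rw [val, val, show pa * pb = pb * pa by rw [hpa, hpb]; decide]
  · intro x _ hxa hxb
    have hcen : ∀ u ∈ U, x * u = u * x := by
      intro u hu
      have h1 : e ⟨u, hUN hu⟩ ∈ U' := ⟨_, hu, rfl⟩
      have h2 : u = ((e.symm (e ⟨u, hUN hu⟩) : ↥(Subgroup.normalizer (U : Set K))) : K) := by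
        rw [e.symm_apply_apply]
      rcases hsub _ h1 with h | h | h | h <;> rw [h] at h2 <;> rw [h2]
      · simp
      · exact hxa
      · exact hxb
      · rw [← val, ← mul_assoc, hxa, mul_assoc, hxb, mul_assoc]
    have hxN : x ∈ Subgroup.normalizer (U : Set K) :=
      (Subgroup.centralizer_le_normalizer (U : Set K))
        (Subgroup.mem_centralizer_iff.mpr fun u hu => (hcen u hu).symm)
    have hcomm : ∀ p : Equiv.Perm (Fin 4), x * (e.symm p : K) = (e.symm p : K) * x →
        e ⟨x, hxN⟩ * p = p * e ⟨x, hxN⟩ := by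
      intro p hp
      have h := congrArg e (Subtype.ext hp :
        (⟨x, hxN⟩ : ↥(Subgroup.normalizer (U : Set K))) * e.symm p = e.symm p * ⟨x, hxN⟩)
      simpa using h
    have hxe : x = ((e.symm (e ⟨x, hxN⟩) : ↥(Subgroup.normalizer (U : Set K))) : K) := by
      rw [e.symm_apply_apply]
    rcases four_self_centralizing _ (hcomm pa hxa) (hcomm pb hxb) with h | h | h | h
    · left; rw [hxe, h, map_one, Subgroup.coe_one]
    · right; left; rw [hxe, h]
    · right; right; left; rw [hxe, h]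
    · right; right; right; rw [hxe, h, val]

/-- A 2-group with a self-centralizing four group is dihedral or semidihedral. -/
theorem dihedral_of_selfCentFour {G : Type*} [Group G] [Finite G] {R : Subgroup G}
    (hR : IsPGroup 2 R) {a b : G} (h : SelfCentFour R a b) :
    (∃ n : ℕ, 2 ≤ n ∧ Nonempty (↥R ≃* DihedralGroup n)) ∨ IsQuasiDihedral ↥R := by
  classical
  have : Fact (Nat.Prime 2) := ⟨Nat.prime_two⟩
  have : Nontrivial ↥R := ⟨⟨⟨a, h.aH⟩, 1, fun e => h.a1 (congrArg Subtype.val e)⟩⟩
  have := hR.center_nontrivial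
  obtain ⟨k, hk⟩ := IsPGroup.iff_card.mp (hR.to_subgroup (Subgroup.center ↥R))
  have hdvd : 2 ∣ Nat.card (Subgroup.center ↥R) := by
    rw [hk]
    refine dvd_pow_self 2 fun e => ?_
    have := Finite.one_lt_card (α := Subgroup.center ↥R)
    rw [hk, e, pow_zero] at this
    omega
  obtain ⟨⟨z, hzc⟩, hz⟩ := exists_prime_orderOf_dvd_card' (G := Subgroup.center ↥R) 2 hdvd
  rw [← Subgroup.orderOf_coe] at hz
  have hz2 := (StronglyEmbedded.orderOf_two_iff.mp hz)
  have hzc' : ∀ r : ↥R, r * z = z * r := fun r => Subgroup.mem_center_iff.mp hzc r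
  set a' : ↥R := ⟨a, h.aH⟩
  set b' : ↥R := ⟨b, h.bH⟩
  -- an involution of the four group distinct from `z`
  obtain ⟨u, hu2, hu1, huz, hcase⟩ : ∃ u : ↥R, u * u = 1 ∧ u ≠ 1 ∧ u ≠ z ∧
      ∀ x : ↥R, x * u = u * x → (x : G) = 1 ∨ (x : G) = a ∨ (x : G) = b ∨ (x : G) = a * b := by
    have hzab := h.cent z z.2 (congrArg Subtype.val (hzc' a')).symm
      (congrArg Subtype.val (hzc' b')).symm
    have hcz : ∀ x : ↥R, (x : G) * z = z * x := fun x => congrArg Subtype.val (hzc' x)
    by_cases hza : (z : G) = a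
    · refine ⟨b', Subtype.ext h.b2, fun e => h.b1 (congrArg Subtype.val e), fun e => h.ne ?_, ?_⟩
      · rw [← hza, ← e]
      · intro x hx
        exact h.cent x x.2 (hza ▸ hcz x) (congrArg Subtype.val hx)
    · refine ⟨a', Subtype.ext h.a2, fun e => h.a1 (congrArg Subtype.val e),
        fun e => hza (congrArg Subtype.val e).symm, ?_⟩
      intro x hx
      have hxa : (x : G) * a = a * x := congrArg Subtype.val hx
      refine h.cent x x.2 hxa ?_
      rcases hzab with e | e | e | e
      · exact absurd (Subtype.ext e : z = 1) hz2.2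
      · exact absurd e hza
      · exact e ▸ hcz x
      · have hb : b = a * z := by rw [e, ← mul_assoc, h.a2, one_mul]
        rw [hb, ← mul_assoc, hxa, mul_assoc, hcz x, mul_assoc]
  have hC : Nat.card (Subgroup.centralizer ({u} : Set ↥R)) ≤ 4 := by
    have hmap : ∀ x : Subgroup.centralizer ({u} : Set ↥R),
        ((x : ↥R) : G) ∈ ({1, a, b, a * b} : Finset G) := fun x => by
      have := hcase x (Subgroup.mem_centralizer_singleton_iff.mp x.2)
      simpa using this
    refine (Nat.card_le_card_of_injective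
      (fun x => (⟨_, hmap x⟩ : ↥({1, a, b, a * b} : Finset G)))
      (fun x y e => Subtype.ext (Subtype.ext (congrArg Subtype.val e :)))).trans ?_
    rw [Nat.card_eq_fintype_card, Fintype.card_coe]
    refine (Finset.card_insert_le _ _).trans ?_
    have := Finset.card_insert_le a ({b, a * b} : Finset G)
    have := Finset.card_insert_le b ({a * b} : Finset G)
    simp only [Finset.card_singleton] at this
    omega
  rcases FixityFour.dihedral_or_quasiDihedral hR hu2 hz2.1 hu1 hz2.2 huz (hzc' u) hC with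
    ⟨n, ⟨f⟩⟩ | hq
  · refine Or.inl ⟨n, ?_, ⟨f⟩⟩
    have hc : Nat.card ↥R = 2 * n := (Nat.card_congr f.toEquiv).trans DihedralGroup.nat_card
    -- the four group lies in `R`
    have h4 : ({1, a', b', a' * b'} : Finset ↥R).card = 4 := by
      have e1 : a' ≠ 1 := fun e => h.a1 (congrArg Subtype.val e)
      have e2 : b' ≠ 1 := fun e => h.b1 (congrArg Subtype.val e)
      have e3 : a' ≠ b' := fun e => h.ne (congrArg Subtype.val e)
      have e4 : a' * b' ≠ a' := fun e => e2 (mul_eq_left.mp e)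
      have e5 : a' * b' ≠ b' := fun e => e1 (mul_eq_right.mp e)
      have e6 : a' * b' ≠ 1 := fun e => e3 (by
        have : a' * a' = 1 := Subtype.ext h.a2
        exact mul_left_cancel (this.trans e.symm))
      simp [e1.symm, e2.symm, e3, e4.symm, e5.symm, e6.symm]
    have := Fintype.ofFinite ↥R
    have h5 := Finset.card_le_univ ({1, a', b', a' * b'} : Finset ↥R)
    rw [h4, ← Nat.card_eq_fintype_card, hc] at h5
    omega
  · exact Or.inr hq

end CfsgLib.ZNStructure44
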